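import Mathlib

set_option autoImplicit false

/-!
# Gluing finite extensions inside `A[1/t]` (Stacks-style construction `A + 𝔪^(c+1) M`)
-/

namespace Groth.Agent.H27.Glue2

universe u

section Constr

variable {A : Type u} [CommRing A] (t : A) {ι : Type*} (B : ι → Type u) [∀ i, CommRing (B i)]
  (f : ∀ i, A →+* B i)

/-- elements of `A` divisible by `t^n` in every `B i`. -/
def J (n : ℕ) : Ideal A where
  carrier := {a | ∀ i, f i t ^ n ∣ f i a}
  add_mem' := fun {a a'} ha ha' i => by rw [map_add]; exact dvd_add (ha i) (ha' i)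
  zero_mem' := fun i => by rw [map_zero]; exact dvd_zero _
  smul_mem' := fun r a ha i => by rw [smul_eq_mul, map_mul]; exact Dvd.dvd.mul_left (ha i) _

theorem mem_J {n : ℕ} {a : A} : a ∈ J t B f n ↔ ∀ i, f i t ^ n ∣ f i a := Iff.rfl

theorem J_mul_le (n n' : ℕ) : J t B f n * J t B f n' ≤ J t B f (n + n') := by
  rw [Ideal.mul_le]
  intro a ha a' ha' i
  rw [map_mul, pow_add]
  exact mul_dvd_mul (ha i) (ha' i)

theorem J_anti {n n' : ℕ} (h : n ≤ n') : J t B f n' ≤ J t B f n := fun a ha i =>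
  (pow_dvd_pow _ h).trans (ha i)

theorem pow_mem_J (n : ℕ) : t ^ n ∈ J t B f n := fun i => by rw [map_pow]

variable (𝔪 : Ideal A) (n c : ℕ)

/-- the ideal `(t^n) + 𝔪^(c+1) J_n`. -/
def I0 : Ideal A := Ideal.span {t ^ n} ⊔ 𝔪 ^ (c + 1) * J t B f n

theorem I0_le_J : I0 t B f 𝔪 n c ≤ J t B f n :=
  sup_le ((Ideal.span_singleton_le_iff_mem _).mpr (pow_mem_J t B f n)) Ideal.mul_le_right

theorem pow_mem_I0 : t ^ n ∈ I0 t B f 𝔪 n c :=
  Ideal.mem_sup_left (Ideal.mem_span_singleton_self _)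

theorem mul_mem_I0 {m a : A} (hm : m ∈ 𝔪 ^ (c + 1)) (ha : a ∈ J t B f n) :
    m * a ∈ I0 t B f 𝔪 n c :=
  Ideal.mem_sup_right (Ideal.mul_mem_mul hm ha)

theorem I0_mul_le (hc : 𝔪 ^ c * J t B f (n + n) ≤ Ideal.span {t ^ n} * J t B f n) :
    I0 t B f 𝔪 n c * I0 t B f 𝔪 n c ≤ Ideal.span {t ^ n} * I0 t B f 𝔪 n c := by
  have hKK : (𝔪 ^ (c + 1) * J t B f n) * (𝔪 ^ (c + 1) * J t B f n) ≤
      Ideal.span {t ^ n} * (𝔪 ^ (c + 1) * J t B f n) := by
    calc (𝔪 ^ (c + 1) * J t B f n) * (𝔪 ^ (c + 1) * J t B f n)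
        = (𝔪 ^ (c + 1) * 𝔪 ^ (c + 1)) * (J t B f n * J t B f n) := by ring
      _ ≤ (𝔪 ^ (c + 1) * 𝔪 ^ (c + 1)) * J t B f (n + n) :=
          Ideal.mul_mono_right (J_mul_le t B f n n)
      _ = 𝔪 ^ (c + 2) * (𝔪 ^ c * J t B f (n + n)) := by
          rw [← pow_add, ← mul_assoc, ← pow_add]
          congr 2
          omega
      _ ≤ 𝔪 ^ (c + 2) * (Ideal.span {t ^ n} * J t B f n) := Ideal.mul_mono_right hc
      _ = Ideal.span {t ^ n} * (𝔪 ^ (c + 2) * J t B f n) := by ring
      _ ≤ Ideal.span {t ^ n} * (𝔪 ^ (c + 1) * J t B f n) :=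
          Ideal.mul_mono_right (Ideal.mul_mono_left (Ideal.pow_le_pow_right (by omega)))
  unfold I0
  rw [Ideal.sup_mul]
  refine sup_le le_rfl ?_
  rw [Ideal.mul_sup]
  refine sup_le ?_ (hKK.trans (Ideal.mul_mono_right le_sup_right))
  rw [mul_comm]
  exact Ideal.mul_mono_right le_sup_right

/-- the subalgebra `{x ∈ A[1/t] | t^n x ∈ I0}`. -/
def Csub (hc : 𝔪 ^ c * J t B f (n + n) ≤ Ideal.span {t ^ n} * J t B f n) :
    Subalgebra A (Localization.Away t) where
  carrier := {x | ∃ a ∈ I0 t B f 𝔪 n c,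
    algebraMap A (Localization.Away t) a = algebraMap A (Localization.Away t) (t ^ n) * x}
  mul_mem' := by
    rintro x y ⟨a, ha, hax⟩ ⟨a', ha', hay⟩
    have h1 : a * a' ∈ Ideal.span {t ^ n} * I0 t B f 𝔪 n c :=
      I0_mul_le t B f 𝔪 n c hc (Ideal.mul_mem_mul ha ha')
    obtain ⟨z, hz, hz'⟩ := Ideal.mem_span_singleton_mul.mp h1
    refine ⟨z, hz, ?_⟩
    have hu : IsUnit (algebraMap A (Localization.Away t) (t ^ n)) := by
      rw [map_pow]
      exact (IsLocalization.Away.algebraMap_isUnit t).pow n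
    apply hu.mul_left_cancel
    rw [← map_mul, hz', map_mul, hax, hay]
    ring
  one_mem' := ⟨t ^ n, pow_mem_I0 t B f 𝔪 n c, by rw [mul_one]⟩
  add_mem' := by
    rintro x y ⟨a, ha, hax⟩ ⟨a', ha', hay⟩
    exact ⟨a + a', Ideal.add_mem _ ha ha', by rw [map_add, hax, hay, mul_add]⟩
  zero_mem' := ⟨0, Ideal.zero_mem _, by rw [map_zero, mul_zero]⟩
  algebraMap_mem' := fun r => ⟨t ^ n * r, Ideal.mul_mem_right _ _ (pow_mem_I0 t B f 𝔪 n c), by
    rw [map_mul]⟩

variable (hc : 𝔪 ^ c * J t B f (n + n) ≤ Ideal.span {t ^ n} * J t B f n)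

theorem mem_Csub {x : Localization.Away t} : x ∈ Csub t B f 𝔪 n c hc ↔
    ∃ a ∈ I0 t B f 𝔪 n c,
      algebraMap A (Localization.Away t) a = algebraMap A (Localization.Away t) (t ^ n) * x :=
  Iff.rfl

theorem isUnit_pow : IsUnit (algebraMap A (Localization.Away t) (t ^ n)) := by
  rw [map_pow]
  exact (IsLocalization.Away.algebraMap_isUnit t).pow n

/-- the element `a / t^n` of `C` for `a ∈ I0`. -/
noncomputable def ell (a : A) : Localization.Away t :=
  IsLocalization.mk' (Localization.Away t) a (⟨t ^ n, n, rfl⟩ : Submonoid.powers t)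

theorem ell_spec (a : A) : algebraMap A (Localization.Away t) a =
    algebraMap A (Localization.Away t) (t ^ n) * ell t n a := by
  unfold ell
  rw [mul_comm]
  exact (IsLocalization.mk'_spec (Localization.Away t) a
    (⟨t ^ n, n, rfl⟩ : Submonoid.powers t)).symm

theorem ell_mem {a : A} (ha : a ∈ I0 t B f 𝔪 n c) : ell t n a ∈ Csub t B f 𝔪 n c hc :=
  ⟨a, ha, ell_spec t n a⟩

theorem finite_Csub [IsNoetherianRing A] : Module.Finite A (Csub t B f 𝔪 n c hc) := by
  let g : (I0 t B f 𝔪 n c) →ₗ[A] (Csub t B f 𝔪 n c hc) :=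
    { toFun := fun a => ⟨ell t n a.1, ell_mem t B f 𝔪 n c hc a.2⟩
      map_add' := by
        intro a a'
        apply Subtype.ext
        show ell t n ((a : A) + (a' : A)) = ell t n (a : A) + ell t n (a' : A)
        apply (isUnit_pow t n).mul_left_cancel
        rw [mul_add, ← ell_spec, ← ell_spec, ← ell_spec, map_add]
      map_smul' := by
        intro r a
        apply Subtype.ext
        show ell t n (r • (a : A)) = r • ell t n (a : A)
        apply (isUnit_pow t n).mul_left_cancel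
        rw [← ell_spec, smul_eq_mul, map_mul, Algebra.smul_def, mul_left_comm, ← ell_spec] }
  have hg : Function.Surjective g := by
    rintro ⟨x, a, ha, hax⟩
    refine ⟨⟨a, ha⟩, ?_⟩
    apply Subtype.ext
    apply (isUnit_pow t n).mul_left_cancel
    show algebraMap A (Localization.Away t) (t ^ n) * ell t n a =
      algebraMap A (Localization.Away t) (t ^ n) * x
    rw [← ell_spec]
    exact hax
  exact Module.Finite.of_surjective g hg

theorem injective_algebraMap_Csub (ht : t ∈ nonZeroDivisors A) :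
    Function.Injective (algebraMap A (Csub t B f 𝔪 n c hc)) := by
  intro a a' h
  have h' := congrArg Subtype.val h
  have hinj : Function.Injective (algebraMap A (Localization.Away t)) :=
    IsLocalization.injective (Localization.Away t) (Submonoid.powers_le.mpr ht)
  exact hinj h'

theorem coker_Csub (r : A) (hr : r ∈ Ideal.span {t} ^ n) (x : Csub t B f 𝔪 n c hc) :
    r • x ∈ (algebraMap A (Csub t B f 𝔪 n c hc)).range := by
  rw [Ideal.span_singleton_pow, Ideal.mem_span_singleton'] at hr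
  obtain ⟨r', rfl⟩ := hr
  obtain ⟨x, a, ha, hax⟩ := x
  refine ⟨r' * a, ?_⟩
  apply Subtype.ext
  show algebraMap A (Localization.Away t) (r' * a) = (r' * t ^ n) • x
  rw [map_mul, hax, Algebra.smul_def, map_mul, mul_assoc]

end Constr

end Groth.Agent.H27.Glue2
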