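import Mathlib

set_option autoImplicit false

namespace Groth.Agent.H27.Glue2

universe u

open scoped TensorProduct

theorem mk'_one_eq {A : Type u} [CommRing A] (q : Ideal A) [q.IsPrime] (s s' : q.primeCompl) :
    IsLocalization.mk' (Localization.AtPrime q) (1 : A) s =
      ((s' : A)) • IsLocalization.mk' (Localization.AtPrime q) (1 : A) (s * s') := by
  rw [IsLocalization.mk'_eq_iff_eq_mul, Algebra.smul_def, mul_assoc]
  have h := IsLocalization.mk'_spec (Localization.AtPrime q) (1 : A) (s * s')
  rw [Submonoid.coe_mul, map_mul] at h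
  rw [mul_left_comm, mul_comm (algebraMap A (Localization.AtPrime q) (s' : A)), h]

theorem mk'_one_eq' {A : Type u} [CommRing A] (q : Ideal A) [q.IsPrime] (s s' : q.primeCompl) :
    IsLocalization.mk' (Localization.AtPrime q) (1 : A) s' =
      ((s : A)) • IsLocalization.mk' (Localization.AtPrime q) (1 : A) (s * s') := by
  rw [IsLocalization.mk'_eq_iff_eq_mul, Algebra.smul_def, mul_assoc]
  have h := IsLocalization.mk'_spec (Localization.AtPrime q) (1 : A) (s * s')
  rw [Submonoid.coe_mul, map_mul] at h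
  rw [mul_left_comm, h]

theorem exists_rep {A : Type u} [CommRing A] (q : Ideal A) [q.IsPrime] {C : Type u} [CommRing C]
    [Algebra A C] (z : (Localization.AtPrime q) ⊗[A] C) :
    ∃ (s : q.primeCompl) (x : C),
      z = IsLocalization.mk' (Localization.AtPrime q) (1 : A) s ⊗ₜ[A] x := by
  induction z using TensorProduct.induction_on with
  | zero => exact ⟨1, 0, by rw [TensorProduct.tmul_zero]⟩
  | tmul α x =>
    obtain ⟨⟨a, s⟩, rfl⟩ := IsLocalization.mk'_surjective q.primeCompl α
    refine ⟨s, a • x, ?_⟩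
    rw [← TensorProduct.smul_tmul, Algebra.smul_def, ← IsLocalization.mk'_eq_mul_mk'_one]
  | add z z' hz hz' =>
    obtain ⟨s, x, rfl⟩ := hz
    obtain ⟨s', x', rfl⟩ := hz'
    refine ⟨s * s', (s' : A) • x + (s : A) • x', ?_⟩
    rw [TensorProduct.tmul_add, ← TensorProduct.smul_tmul, ← TensorProduct.smul_tmul,
      ← mk'_one_eq, ← mk'_one_eq']

theorem nonempty_algEquiv {A : Type u} [CommRing A] (q : Ideal A) [q.IsPrime] {C Bi : Type u}
    [CommRing C] [Algebra A C] [CommRing Bi] [Algebra (Localization.AtPrime q) Bi]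
    (φ : C →+* Bi)
    (hφ : ∀ a : A, φ (algebraMap A C a) =
      algebraMap (Localization.AtPrime q) Bi (algebraMap A (Localization.AtPrime q) a))
    (hsurj : ∀ b : Bi, ∃ s : A, s ∉ q ∧ ∃ x : C,
      φ x = algebraMap (Localization.AtPrime q) Bi (algebraMap A (Localization.AtPrime q) s) * b)
    (hinj : ∀ x : C, φ x = 0 → ∃ s : A, s ∉ q ∧ s • x = 0) :
    Nonempty ((Localization.AtPrime q) ⊗[A] C ≃ₐ[Localization.AtPrime q] Bi) := by
  classical
  letI : Algebra A Bi :=
    ((algebraMap (Localization.AtPrime q) Bi).comp (algebraMap A (Localization.AtPrime q))).toAlgebra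
  haveI : IsScalarTower A (Localization.AtPrime q) Bi :=
    IsScalarTower.of_algebraMap_eq (fun _ => rfl)
  let φ' : C →ₐ[A] Bi := { φ with commutes' := hφ }
  let F : (Localization.AtPrime q) ⊗[A] C →ₐ[Localization.AtPrime q] Bi :=
    Algebra.TensorProduct.lift (Algebra.ofId (Localization.AtPrime q) Bi) φ'
      (fun _ _ => Commute.all _ _)
  have hF : ∀ (α : Localization.AtPrime q) (x : C),
      F (α ⊗ₜ[A] x) = algebraMap (Localization.AtPrime q) Bi α * φ x := by
    intro α x
    simp only [F, Algebra.TensorProduct.lift_tmul, Algebra.ofId_apply]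
    rfl
  have hunit : ∀ s : q.primeCompl, algebraMap (Localization.AtPrime q) Bi
      (IsLocalization.mk' (Localization.AtPrime q) (1 : A) s) *
      algebraMap (Localization.AtPrime q) Bi (algebraMap A (Localization.AtPrime q) (s : A)) = 1 := by
    intro s
    rw [← map_mul, IsLocalization.mk'_spec, map_one, map_one]
  refine ⟨AlgEquiv.ofBijective F ⟨?_, ?_⟩⟩
  · rw [injective_iff_map_eq_zero]
    intro z hz
    obtain ⟨s, x, rfl⟩ := exists_rep q z
    rw [hF] at hz
    have hx : φ x = 0 := by
      have := congrArg (fun y => algebraMap (Localization.AtPrime q) Bi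
        (algebraMap A (Localization.AtPrime q) (s : A)) * y) hz
      simp only [mul_zero] at this
      rw [← mul_assoc, mul_comm (algebraMap (Localization.AtPrime q) Bi _), hunit, one_mul] at this
      exact this
    obtain ⟨s', hs', hs'x⟩ := hinj x hx
    rw [mk'_one_eq q s ⟨s', hs'⟩, TensorProduct.smul_tmul]
    show _ ⊗ₜ[A] (s' • x) = 0
    rw [hs'x, TensorProduct.tmul_zero]
  · intro b
    obtain ⟨s, hs, x, hx⟩ := hsurj b
    refine ⟨IsLocalization.mk' (Localization.AtPrime q) (1 : A) (⟨s, hs⟩ : q.primeCompl) ⊗ₜ[A] x, ?_⟩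
    rw [hF, hx, ← mul_assoc]
    have := hunit ⟨s, hs⟩
    rw [this, one_mul]

end Groth.Agent.H27.Glue2
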