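import Groth.Agent.H27.Glue2.Phi

set_option autoImplicit false

namespace Groth.Agent.H27.Glue2

universe u

open IsLocalRing

/-- two primes containing the nonzerodivisor `t`, the bigger one non-maximal, in a 2-dimensional
local ring: they are equal. -/
theorem eq_of_le_of_dim_two {A : Type u} [CommRing A] [IsNoetherianRing A] [IsLocalRing A]
    (hA : ringKrullDim A = 2) (t : A) (htnz : t ∈ nonZeroDivisors A) (p p' : Ideal A)
    [p.IsPrime] [p'.IsPrime] (hp' : p' ≠ maximalIdeal A) (htp : t ∈ p) (hle : p ≤ p') :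
    p = p' := by
  by_contra hne
  have hlt : p < p' := lt_of_le_of_ne hle hne
  have hlt' : p' < maximalIdeal A :=
    lt_of_le_of_ne (IsLocalRing.le_maximalIdeal Ideal.IsPrime.ne_top') hp'
  have h1 : p.height < p'.height := Ideal.height_strict_mono_of_isPrime hlt
  have h2 : p'.height < (maximalIdeal A).height := Ideal.height_strict_mono_of_isPrime hlt'
  have h3 : ((maximalIdeal A).height : WithBot ℕ∞) ≤ 2 := by
    rw [← hA]
    exact Ideal.height_le_ringKrullDim_of_ne_top Ideal.IsPrime.ne_top'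
  have h3' : (maximalIdeal A).height ≤ 2 := by
    have : ((2 : ℕ∞) : WithBot ℕ∞) = 2 := rfl
    rw [← this] at h3
    exact WithBot.coe_le_coe.mp h3
  have h0 : p.height = 0 := by
    have hm : (maximalIdeal A).height ≠ ⊤ := ne_top_of_le_ne_top (by simp) h3'
    have hp'' : p'.height ≠ ⊤ := ne_top_of_lt h2
    have hp0 : p.height ≠ ⊤ := ne_top_of_lt h1
    lift (maximalIdeal A).height to ℕ using hm with a
    lift p'.height to ℕ using hp'' with b
    lift p.height to ℕ using hp0 with d
    norm_cast at h1 h2 h3' ⊢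
    omega
  have hmin : p ∈ minimalPrimes A := Ideal.height_eq_zero_iff.mp h0
  exact Set.disjoint_left.mp (Ideal.disjoint_nonZeroDivisors_of_mem_minimalPrimes hmin) htp htnz

/-- if `p` is minimal among the primes containing `t`, then `t^n A_p` contains a power of the
maximal ideal of `A_p`. -/
theorem exists_pow_le_span {A : Type u} [CommRing A] [IsNoetherianRing A] (t : A) (p : Ideal A)
    [p.IsPrime] (hmin : ∀ p' : Ideal A, p'.IsPrime → t ∈ p' → p' ≤ p → p' = p) (n : ℕ) :
    ∃ N : ℕ, maximalIdeal (Localization.AtPrime p) ^ N ≤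
      Ideal.span {algebraMap A (Localization.AtPrime p) t ^ n} := by
  apply Ideal.exists_pow_le_of_le_radical_of_fg _ (IsNoetherian.noetherian _)
  rw [Ideal.radical_eq_sInf]
  refine le_sInf ?_
  rintro P ⟨hP, hPprime⟩
  have htP : algebraMap A (Localization.AtPrime p) t ∈ P :=
    hPprime.mem_of_pow_mem n (hP (Ideal.mem_span_singleton_self _))
  have hcomap : P.comap (algebraMap A (Localization.AtPrime p)) = p := by
    apply hmin _ (Ideal.IsPrime.comap _) htP
    have h1 : P ≤ maximalIdeal (Localization.AtPrime p) :=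
      IsLocalRing.le_maximalIdeal hPprime.ne_top
    have h2 := Ideal.comap_mono (f := algebraMap A (Localization.AtPrime p)) h1
    have h3 : (maximalIdeal (Localization.AtPrime p)).comap (algebraMap A (Localization.AtPrime p)) = p :=
      Localization.AtPrime.under_maximalIdeal
    rwa [h3] at h2
  have hmap : (P.comap (algebraMap A (Localization.AtPrime p))).map
      (algebraMap A (Localization.AtPrime p)) = P :=
    IsLocalization.map_comap p.primeCompl _ P
  rw [hcomap, Localization.AtPrime.map_eq_maximalIdeal] at hmap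
  exact hmap.le

/-- an element outside `p₁` which becomes divisible by `t^n` in `A_p`, when `p ⊄ p₁`. -/
theorem exists_notMem_dvd {A : Type u} [CommRing A] [IsNoetherianRing A] (t : A) (p p₁ : Ideal A)
    [p.IsPrime] [p₁.IsPrime] (hmin : ∀ p' : Ideal A, p'.IsPrime → t ∈ p' → p' ≤ p → p' = p)
    (hnle : ¬ p ≤ p₁) (n : ℕ) :
    ∃ y : A, y ∉ p₁ ∧ algebraMap A (Localization.AtPrime p) t ^ n ∣
      algebraMap A (Localization.AtPrime p) y := by
  obtain ⟨y0, hy0, hy0'⟩ := Set.not_subset.mp hnle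
  obtain ⟨N, hN⟩ := exists_pow_le_span t p hmin n
  refine ⟨y0 ^ N, fun h => hy0' (Ideal.IsPrime.mem_of_pow_mem inferInstance N h), ?_⟩
  have h1 : algebraMap A (Localization.AtPrime p) y0 ∈ maximalIdeal (Localization.AtPrime p) :=
    (IsLocalization.AtPrime.to_map_mem_maximal_iff (Localization.AtPrime p) p y0).mpr hy0
  have h2 := hN (Ideal.pow_mem_pow h1 N)
  rw [map_pow]
  exact Ideal.mem_span_singleton.mp h2

section Main

variable {A : Type u} [CommRing A] [IsNoetherianRing A] [IsLocalRing A]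
  (hA : ringKrullDim A = 2) (t : A) (htnz : t ∈ nonZeroDivisors A) {r : ℕ} (q : Fin r → Ideal A)
  [hq : ∀ i, (q i).IsPrime] (hinj : Function.Injective q) (hqm : ∀ i, q i ≠ maximalIdeal A)
  (htq : ∀ i, t ∈ q i) (B : Fin r → Type u) [∀ i, CommRing (B i)]
  [∀ i, Algebra (Localization.AtPrime (q i)) (B i)]

/-- the structure maps `A → A_{q_i} → B_i`. -/
def fB (i : Fin r) : A →+* B i :=
  (algebraMap (Localization.AtPrime (q i)) (B i)).comp (algebraMap A (Localization.AtPrime (q i)))

theorem fB_apply (i : Fin r) (a : A) : fB q B i a =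
    algebraMap (Localization.AtPrime (q i)) (B i) (algebraMap A (Localization.AtPrime (q i)) a) :=
  rfl

include hA htnz hqm in
theorem hmin_q (j : Fin r) : ∀ p' : Ideal A, p'.IsPrime → t ∈ p' → p' ≤ q j → p' = q j := by
  intro p' hp' htp' hle
  haveI := hp'
  exact eq_of_le_of_dim_two hA t htnz p' (q j) (hqm j) htp' hle

include hA htnz hqm htq hinj in
theorem not_le_q {i j : Fin r} (hji : j ≠ i) : ¬ q j ≤ q i := by
  intro hle
  exact hji (hinj (eq_of_le_of_dim_two hA t htnz (q j) (q i) (hqm i) (htq j) hle))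

include hA htnz hqm htq hinj in
/-- an element outside `q i` which is divisible by `t^n` in all the other `B j`. -/
theorem exists_s2 (i : Fin r) (n : ℕ) :
    ∃ s₂ : A, s₂ ∉ q i ∧ ∀ j, j ≠ i → fB q B j t ^ n ∣ fB q B j s₂ := by
  classical
  have h : ∀ j : Fin r, ∃ y : A, y ∉ q i ∧ (j ≠ i → fB q B j t ^ n ∣ fB q B j y) := by
    intro j
    by_cases hji : j = i
    · exact ⟨1, fun h => (hq i).ne_top ((Ideal.eq_top_iff_one _).mpr h), fun h => absurd hji h⟩
    · obtain ⟨y, hy, hdvd⟩ := exists_notMem_dvd t (q j) (q i)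
        (hmin_q hA t htnz q hqm j) (not_le_q hA t htnz q hinj hqm htq hji) n
      refine ⟨y, hy, fun _ => ?_⟩
      have := map_dvd (algebraMap (Localization.AtPrime (q j)) (B j)) hdvd
      rwa [map_pow] at this
  choose y hy hy' using h
  refine ⟨∏ j, y j, ?_, ?_⟩
  · intro hmem
    obtain ⟨j, _, hj⟩ := (Ideal.IsPrime.prod_mem_iff (p := q i)).mp hmem
    exact hy j hj
  · intro j hji
    exact (hy' j hji).trans (map_dvd (fB q B j) (Finset.dvd_prod_of_mem y (Finset.mem_univ j)))

variable (n : ℕ) (hBinj : ∀ i, Function.Injective (algebraMap (Localization.AtPrime (q i)) (B i)))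
  (hBcok : ∀ i, ∀ b : B i, ∃ α : Localization.AtPrime (q i),
    algebraMap (Localization.AtPrime (q i)) (B i) α = fB q B i t ^ n * b)
  (hreg : ∀ i, fB q B i t ∈ nonZeroDivisors (B i))

include hBinj hBcok hreg in
/-- L1 -/
theorem exists_mul_mem (g : A) (hg : g ∈ J t B (fB q B) (n + n)) (i : Fin r) :
    ∃ s : A, s ∉ q i ∧ s * g ∈ Ideal.span {t ^ n} * J t B (fB q B) n := by
  obtain ⟨b, hb⟩ := hg i
  obtain ⟨α, hα⟩ := hBcok i b
  obtain ⟨⟨a₁, s₁⟩, rfl⟩ := IsLocalization.mk'_surjective (q i).primeCompl α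
  have h1 : fB q B i (s₁ : A) * (fB q B i t ^ n * b) = fB q B i a₁ := by
    rw [← hα, fB_apply, fB_apply, ← map_mul, mul_comm, IsLocalization.mk'_spec]
  have h2 : fB q B i ((s₁ : A) * g) = fB q B i (t ^ n * a₁) := by
    rw [map_mul, map_mul, hb, ← h1, map_pow, pow_add]
    ring
  have h3 : algebraMap A (Localization.AtPrime (q i)) ((s₁ : A) * g) =
      algebraMap A (Localization.AtPrime (q i)) (t ^ n * a₁) := hBinj i h2
  obtain ⟨s', hs'⟩ := (IsLocalization.eq_iff_exists (q i).primeCompl _).mp h3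
  refine ⟨(s' : A) * (s₁ : A), (q i).primeCompl.mul_mem s'.2 s₁.2, ?_⟩
  have h4 : (s' : A) * (s₁ : A) * g = t ^ n * ((s' : A) * a₁) := by
    rw [mul_assoc, hs']
    ring
  rw [h4]
  refine Ideal.mul_mem_mul (Ideal.mem_span_singleton_self _) ?_
  intro k
  obtain ⟨bk, hbk⟩ := hg k
  refine ⟨fB q B k ((s' : A) * (s₁ : A)) * bk, ?_⟩
  have h5 := congrArg (fB q B k) h4
  rw [map_mul, hbk, map_mul (fB q B k) (t ^ n), map_pow, pow_add] at h5
  have hnz : fB q B k t ^ n ∈ nonZeroDivisors (B k) := pow_mem (hreg k) n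
  apply (mul_cancel_left_mem_nonZeroDivisors hnz).mp
  rw [← h5]
  ring

include hA htnz hqm htq hinj hBcok in
/-- L2 -/
theorem exists_lift_elem (i : Fin r) (b : B i) :
    ∃ s : A, s ∉ q i ∧ ∃ a ∈ J t B (fB q B) n,
      fB q B i a = fB q B i t ^ n * (fB q B i s * b) := by
  obtain ⟨α, hα⟩ := hBcok i b
  obtain ⟨⟨a₁, s₁⟩, rfl⟩ := IsLocalization.mk'_surjective (q i).primeCompl α
  have h1 : fB q B i (s₁ : A) * (fB q B i t ^ n * b) = fB q B i a₁ := by
    rw [← hα, fB_apply, fB_apply, ← map_mul, mul_comm, IsLocalization.mk'_spec]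
  obtain ⟨s₂, hs₂, hs₂'⟩ := exists_s2 hA t htnz q hinj hqm htq B i n
  have hkey : fB q B i (s₂ * a₁) = fB q B i t ^ n * (fB q B i (s₂ * (s₁ : A)) * b) := by
    rw [map_mul, ← h1, map_mul]
    ring
  refine ⟨s₂ * (s₁ : A), (q i).primeCompl.mul_mem hs₂ s₁.2, s₂ * a₁, ?_, hkey⟩
  intro j
  by_cases hji : j = i
  · subst hji
    exact ⟨_, hkey⟩
  · rw [map_mul]
    exact Dvd.dvd.mul_right (hs₂' j hji) _

end Main

end Groth.Agent.H27.Glue2
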