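import Groth.Agent.H27.Glue2.Constr

set_option autoImplicit false

namespace Groth.Agent.H27.Glue2

universe u

section Phi

variable {A : Type u} [CommRing A] (t : A) {ι : Type*} (B : ι → Type u) [∀ i, CommRing (B i)]
  (f : ∀ i, A →+* B i) (𝔪 : Ideal A) (n c : ℕ)
  (hc : 𝔪 ^ c * J t B f (n + n) ≤ Ideal.span {t ^ n} * J t B f n)
  (hreg : ∀ i, f i t ∈ nonZeroDivisors (B i))

/-- the map `A[1/t] → B_i[1/t]`. -/
noncomputable def psi (i : ι) : Localization.Away t →+* Localization.Away (f i t) :=
  IsLocalization.Away.lift t (g := (algebraMap (B i) (Localization.Away (f i t))).comp (f i))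
    (IsLocalization.Away.algebraMap_isUnit (f i t))

theorem psi_algebraMap (i : ι) (a : A) :
    psi t B f i (algebraMap A (Localization.Away t) a) =
      algebraMap (B i) (Localization.Away (f i t)) (f i a) := by
  unfold psi
  rw [IsLocalization.Away.lift_eq]
  rfl

include hreg in
theorem injective_algebraMap_away (i : ι) :
    Function.Injective (algebraMap (B i) (Localization.Away (f i t))) :=
  IsLocalization.injective _ (Submonoid.powers_le.mpr (hreg i))

theorem isUnit_pow' (i : ι) :
    IsUnit (algebraMap (B i) (Localization.Away (f i t)) (f i t ^ n)) := by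
  rw [map_pow]
  exact (IsLocalization.Away.algebraMap_isUnit (f i t)).pow n

theorem exists_psi_eq (i : ι) (x : Csub t B f 𝔪 n c hc) :
    ∃ b : B i, algebraMap (B i) (Localization.Away (f i t)) b = psi t B f i x.1 := by
  obtain ⟨x, a, ha, hax⟩ := x
  obtain ⟨b, hb⟩ := I0_le_J t B f 𝔪 n c ha i
  refine ⟨b, ?_⟩
  have h1 := congrArg (psi t B f i) hax
  rw [psi_algebraMap, map_mul, psi_algebraMap, hb, map_mul, map_pow (f i)] at h1
  exact (isUnit_pow' t B f n i).mul_left_cancel h1

/-- the underlying function of `phi`. -/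
noncomputable def phiFun (i : ι) (x : Csub t B f 𝔪 n c hc) : B i :=
  Classical.choose (exists_psi_eq t B f 𝔪 n c hc i x)

theorem phiFun_spec (i : ι) (x : Csub t B f 𝔪 n c hc) :
    algebraMap (B i) (Localization.Away (f i t)) (phiFun t B f 𝔪 n c hc i x) =
      psi t B f i x.1 :=
  Classical.choose_spec (exists_psi_eq t B f 𝔪 n c hc i x)

/-- the ring hom `C → B_i`. -/
noncomputable def phi (i : ι) : Csub t B f 𝔪 n c hc →+* B i where
  toFun := phiFun t B f 𝔪 n c hc i
  map_one' := by
    apply injective_algebraMap_away t B f hreg i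
    rw [phiFun_spec, map_one, Subalgebra.coe_one, map_one]
  map_mul' := by
    intro x y
    apply injective_algebraMap_away t B f hreg i
    rw [phiFun_spec, map_mul, phiFun_spec, phiFun_spec, Subalgebra.coe_mul, map_mul]
  map_zero' := by
    apply injective_algebraMap_away t B f hreg i
    rw [phiFun_spec, map_zero, Subalgebra.coe_zero, map_zero]
  map_add' := by
    intro x y
    apply injective_algebraMap_away t B f hreg i
    rw [phiFun_spec, map_add, phiFun_spec, phiFun_spec, Subalgebra.coe_add, map_add]

theorem phi_spec (i : ι) (x : Csub t B f 𝔪 n c hc) :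
    algebraMap (B i) (Localization.Away (f i t)) (phi t B f 𝔪 n c hc hreg i x) =
      psi t B f i x.1 :=
  phiFun_spec t B f 𝔪 n c hc i x

theorem phi_algebraMap (i : ι) (a : A) :
    phi t B f 𝔪 n c hc hreg i (algebraMap A (Csub t B f 𝔪 n c hc) a) = f i a := by
  apply injective_algebraMap_away t B f hreg i
  rw [phi_spec]
  exact psi_algebraMap t B f i a

theorem phi_key (i : ι) (x : Csub t B f 𝔪 n c hc) (a : A)
    (h : algebraMap A (Localization.Away t) a =
      algebraMap A (Localization.Away t) (t ^ n) * x.1) :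
    f i a = f i t ^ n * phi t B f 𝔪 n c hc hreg i x := by
  apply injective_algebraMap_away t B f hreg i
  have h1 := congrArg (psi t B f i) h
  rw [psi_algebraMap, map_mul, psi_algebraMap, map_pow (f i)] at h1
  rw [h1, map_mul, phi_spec]

theorem phi_ell (i : ι) {a : A} (ha : a ∈ I0 t B f 𝔪 n c) :
    f i a = f i t ^ n * phi t B f 𝔪 n c hc hreg i ⟨ell t n a, ell_mem t B f 𝔪 n c hc ha⟩ :=
  phi_key t B f 𝔪 n c hc hreg i _ a (ell_spec t n a)

end Phi

end Groth.Agent.H27.Glue2
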